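import Cfsg.Agent.S4689
import Cfsg.Agent.H649.AbelLocal
import Cfsg.Agent.H644.Maximal
import Cfsg.Agent.H613.RegGram
import Cfsg.Agent.Characters.CCBasic
set_option linter.all false

/-!
# Blocks with abelian defect group and trivial inertial quotient

`isNilpotentBlock_of_abelian`: such a block is nilpotent.
`card_eq`: it has `|P|` members; `apply_eq`: they agree on the `p`-regular elements;
`rg_eq`: their products over the `p`-regular elements are `1 / |P|`.
-/

set_option autoImplicit false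
set_option linter.unusedSectionVars false

open Cfsg
open scoped ComplexConjugate

namespace Cfsg.Agent.H642.F1

open Cfsg.Agent.H644 Cfsg.Agent.Blocks.Local Cfsg.Agent.H651 Cfsg.Agent.H649
open Cfsg.Agent.Characters

universe u

variable {p : ℕ} [Fact p.Prime] {M : Ideal AlgInt} [M.IsPrime] {G : Type u} [Group G] [Finite G]
  {B : Set (IrrCharacter G)} {P : Subgroup G}
  {e : Set (IrrCharacter (Subgroup.centralizer (P : Set G)))}

/-- A block with abelian defect group and trivial inertial quotient is nilpotent. -/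
theorem isNilpotentBlock_of_abelian (hM : IsPModular p M)
    (hmax : IsMaximalBrauerPair p M B P e) (hab : ∀ x ∈ P, ∀ y ∈ P, x * y = y * x)
    (hstab : pairStab M P e ≤ Subgroup.centralizer (P : Set G)) : IsNilpotentBlock p M B := by
  have := Fintype.ofFinite G
  rw [isNilpotentBlock_iff]
  refine ⟨hmax.1.2.1, fun Q f hQf x hx hreg => ?_⟩
  obtain ⟨y, hy⟩ := exists_conj_subpairLE hM hmax hQf
  have h3 : conjIdx (y * x * y⁻¹) (conjIdx y ⟨Q, f⟩) = conjIdx y ⟨Q, f⟩ := by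
    rw [conjIdx_conjIdx, inv_mul_cancel_right, ← conjIdx_conjIdx]
    congr 1
  rw [conjIdx_mk y] at h3
  obtain ⟨t, ht, -, c, hc, htc⟩ := exists_mul_of_abelian hM hmax hab hy h3
  have hQP : Q.map (MulAut.conj y).toMonoidHom ≤ P := SubpairLE.le hy
  have hePB : IsPBlock M e := hmax.1.1.2
  have htP : t ∈ Subgroup.centralizer (P : Set G) := by
    obtain ⟨h4, h5⟩ := (conjIdx_eq_iff hePB t).1 ht
    exact hstab ((mem_pairStab_iff_stabilizesBlock hM hePB).2 ⟨h4, h5⟩)
  have hxS' : y * x * y⁻¹ ∈ Subgroup.centralizer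
      ((Q.map (MulAut.conj y).toMonoidHom : Subgroup G) : Set G) := by
    rw [htc]
    exact mul_mem (centralizer_mono hQP htP) hc
  exact (map_mem_centralizer_iff (MulAut.conj y) Q x).1 (by
    rw [MulAut.conj_apply]; exact hxS')

section nil

variable (hM : IsPModular p M) (hmax : IsMaximalBrauerPair p M B P e)
  (hab : ∀ x ∈ P, ∀ y ∈ P, x * y = y * x) (hnil : IsNilpotentBlock p M B)

include hM hmax hab hnil

theorem nil_data : (Nat.card B = Nat.card P) ∧ ∀ χ ∈ B, ∀ χ' ∈ B, ∀ g : G, ¬ p ∣ orderOf g →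
    (χ : G → ℂ) g = (χ' : G → ℂ) g := by
  have := Fintype.ofFinite G
  obtain ⟨χ, hχ, h0⟩ := Cfsg.Agent.H648.HeightForm.exists_height_zero (p := p) hnil.1
  have hmax' : IsMaximalBrauerPair p M B (⟨P, e⟩ : BrauerPairIdx G).1
      (⟨P, e⟩ : BrauerPairIdx G).2 := hmax
  have hin := Cfsg.Agent.H652.NilSetup.innerFus hM hmax' hnil
  have hloc : ∀ v ∈ (⟨P, e⟩ : BrauerPairIdx G).1, _ := fun v hv =>
    Cfsg.Agent.H652.NilSetup.card_loc hM hmax' hnil hv
  have hcomm : ∀ a b : P, a * b = b * a := fun a b => Subtype.ext (hab a a.2 b b.2)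
  constructor
  · obtain ⟨Φ, -⟩ := Cfsg.Agent.H652.NilIrr.exists_equiv hM hmax' hin hloc hχ h0
    rw [Nat.card_congr Φ]
    exact CCBasic.card_irr_of_comm hcomm
  · have h1 : ∀ ψ ∈ B, ∀ g : G, ¬ p ∣ orderOf g → (ψ : G → ℂ) g = (χ : G → ℂ) g := by
      intro ψ hψ g hg
      obtain ⟨η, rfl⟩ := Cfsg.Agent.H652.NilIrr.psi_surjective hM hmax' hin hloc hχ h0 hψ
      rw [Cfsg.Agent.H652.NilIrr.psi_reg hM hmax' hin hloc hχ h0 η hg]
      have h2 : (charDegree (η : P → ℂ) : ℂ) = 1 := by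
        rw [← Cfsg.Agent.Blocks.Basic.irr_one_eq_charDegree η.2]
        exact CCBasic.irr_apply_one_of_comm hcomm η.2
      erw [h2]
      rw [one_mul]
    intro ψ hψ ψ' hψ' g hg
    rw [h1 ψ hψ g hg, h1 ψ' hψ' g hg]

theorem card_eq : Nat.card B = Nat.card P := (nil_data hM hmax hab hnil).1

theorem apply_eq {χ χ' : IrrCharacter G} (hχ : χ ∈ B) (hχ' : χ' ∈ B) {g : G}
    (hg : ¬ p ∣ orderOf g) : (χ : G → ℂ) g = (χ' : G → ℂ) g :=
  (nil_data hM hmax hab hnil).2 χ hχ χ' hχ' g hg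

open Cfsg.Agent.H613.RegGram Cfsg.Agent.Blocks.Blau in
theorem rg_eq [Fintype G] {χ χ' : IrrCharacter G} (hχ : χ ∈ B) (hχ' : χ' ∈ B) :
    rg p (χ : G → ℂ) (χ' : G → ℂ) = (Nat.card P : ℂ)⁻¹ := by
  classical
  have hfin := Core.finite_irr (G := G)
  have := Fintype.ofFinite B
  have h1 : ∀ ψ ∈ B, regPart p (ψ : G → ℂ) = regPart p (χ : G → ℂ) := by
    intro ψ hψ
    funext g
    by_cases hg : p ∣ orderOf g
    · rw [regPart_of_dvd hg, regPart_of_dvd hg]
    · rw [regPart_of_not_dvd hg, regPart_of_not_dvd hg]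
      exact apply_eq hM hmax hab hnil hψ hχ hg
  have h2 : ∀ ψ ∈ B, ∀ ψ' ∈ B, rg p (ψ : G → ℂ) (ψ' : G → ℂ) = rg p (χ : G → ℂ) (χ : G → ℂ) := by
    intro ψ hψ ψ' hψ'
    rw [← classInner_regPart_regPart, ← classInner_regPart_regPart, h1 ψ hψ, h1 ψ' hψ']
  have h3 := sum_rg_self hM hnil.1
  have h4 : blockRank p B = 1 := (Cfsg.Agent.S4689.result p M hM B hnil).1
  rw [h4, Finset.sum_congr rfl fun (ζ : B) _ => h2 ζ.1 ζ.2 ζ.1 ζ.2, Finset.sum_const, Finset.card_univ,
    ← Nat.card_eq_fintype_card, card_eq hM hmax hab hnil, nsmul_eq_mul, Nat.cast_one] at h3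
  rw [h2 χ hχ χ' hχ']
  exact eq_inv_of_mul_eq_one_right h3

end nil

/-- Data of a block with abelian defect group and trivial inertial quotient. -/
theorem data (hM : IsPModular p M) (hPe : IsBrauerPairOf p M B P e) (hD : IsDefectGroup p M B P)
    (hab : ∀ x ∈ P, ∀ y ∈ P, x * y = y * x)
    (hstab : pairStab M P e ≤ Subgroup.centralizer (P : Set G)) :
    IsNilpotentBlock p M B ∧ blockRank p B = 1 ∧ Nat.card B = Nat.card P ∧
      (∀ χ ∈ B, ∀ χ' ∈ B, ∀ g : G, ¬ p ∣ orderOf g → (χ : G → ℂ) g = (χ' : G → ℂ) g) := by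
  have := Fintype.ofFinite G
  have hmax := isMaximalBrauerPair_of_isDefectGroup hM hPe hD
  have hnil := isNilpotentBlock_of_abelian hM hmax hab hstab
  exact ⟨hnil, (Cfsg.Agent.S4689.result p M hM B hnil).1, card_eq hM hmax hab hnil,
    (nil_data hM hmax hab hnil).2⟩

end Cfsg.Agent.H642.F1
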