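import Cfsg.Agent.H642.MonoPair
import Cfsg.Agent.H847.MonDeg
import Cfsg.Agent.H966.RowM
import Cfsg.Agent.S5540
import Cfsg.Agent.S2085
import Cfsg.Agent.H270.Crit.Base
import Cfsg.Agent.Prune
set_option linter.all false
prune_inst 0x7f00000000000000000000000000000000000000000000000000000000000000000000000000000000000000000000000000000000000000000000000000000000000000000000000000000000000000003fdffeefffffffffffffffffffffbeffbdefffffff
open scoped Cfsg.Agent.FastGrp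

/-!
# GoodMono: the Monster (helper642, for S4572)
-/

set_option autoImplicit false

namespace Cfsg.Agent.H642.Mono

open Cfsg Cfsg.Agent.H649.MN Cfsg.Agent.H361.SelfCent Cfsg.Agent.OrdDiv

universe u

/-- complexification of a real representation -/
theorem exists_complex {G : Type*} [Group G] {n : ℕ} (ρ : Representation ℝ G (Fin n → ℝ))
    (hρ : Function.Injective ρ) : ∃ σ : Representation ℂ G (Fin n → ℂ), Function.Injective σ := by
  let f : Matrix (Fin n) (Fin n) ℝ →* Matrix (Fin n) (Fin n) ℂ :=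
    ((algebraMap ℝ ℂ).mapMatrix : Matrix (Fin n) (Fin n) ℝ →+* Matrix (Fin n) (Fin n) ℂ).toMonoidHom
  let a : ((Fin n → ℝ) →ₗ[ℝ] (Fin n → ℝ)) →* Matrix (Fin n) (Fin n) ℝ :=
    (LinearMap.toMatrixAlgEquiv' : ((Fin n → ℝ) →ₗ[ℝ] (Fin n → ℝ)) ≃ₐ[ℝ] Matrix (Fin n) (Fin n) ℝ).toMulEquiv.toMonoidHom
  let b : Matrix (Fin n) (Fin n) ℂ →* ((Fin n → ℂ) →ₗ[ℂ] (Fin n → ℂ)) :=
    (Matrix.toLinAlgEquiv' : Matrix (Fin n) (Fin n) ℂ ≃ₐ[ℂ] ((Fin n → ℂ) →ₗ[ℂ] (Fin n → ℂ))).toMulEquiv.toMonoidHom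
  refine ⟨(b.comp (f.comp a)).comp ρ, ?_⟩
  intro x y hxy
  apply hρ
  have h1 : b (f (a (ρ x))) = b (f (a (ρ y))) := hxy
  have h2 : f (a (ρ x)) = f (a (ρ y)) :=
    (Matrix.toLinAlgEquiv' : Matrix (Fin n) (Fin n) ℂ ≃ₐ[ℂ] ((Fin n → ℂ) →ₗ[ℂ] (Fin n → ℂ))).injective h1
  have h3 : a (ρ x) = a (ρ y) := by
    ext i j
    have h4 := congrFun (congrFun h2 i) j
    exact (algebraMap ℝ ℂ).injective h4
  exact (LinearMap.toMatrixAlgEquiv' : ((Fin n → ℝ) →ₗ[ℝ] (Fin n → ℝ)) ≃ₐ[ℝ] Matrix (Fin n) (Fin n) ℝ).injective h3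

theorem minDeg_m : MinDeg Spor.Monster 196883 := by
  have hf : Finite Spor.Monster := Cfsg.Agent.H966.RowM.finite_m
  have hs : IsSimpleGroup Spor.Monster := Cfsg.Agent.H966.RowM.simple_m
  refine minDeg_of_rep (fun n ρ hρ => ?_) ?_
  · have h := Cfsg.Agent.H847.MonDeg.bound (V := Fin n → ℂ) ρ hρ
    simpa using h
  · obtain ⟨ρ, hρ, -⟩ := Cfsg.Agent.S5540.result
    obtain ⟨σ, hσ⟩ := exists_complex ρ hρ
    obtain ⟨g, hg⟩ := exists_ne (1 : Spor.Monster)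
    refine ⟨σ, g, fun h => hg (hσ ?_)⟩
    rw [h, map_one]

theorem m (E : Env.{u}) {S : Type u} [Group S] [Finite S] [IsSimpleGroup S] (h : Spor.IsoM S) : GoodMono S := by
  have h0 := h
  obtain ⟨e⟩ := h
  refine E.pair (.m, 808017424794512875886459904961710757005754368000000000) (by decide) h0
    ((Cfsg.Agent.H548.Crit.card_out_congr e).trans Cfsg.Agent.S2085.result)
    [(2, 46), (3, 20), (5, 9), (7, 6), (11, 2), (13, 3), (17, 1), (19, 1), (23, 1), (29, 1), (31, 1), (41, 1),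
      (47, 1), (59, 1), (71, 1)] 47 59
    (by decide +kernel) (fun g hg => ?_) (minDeg_m.congr e.symm) (by norm_num)
  exact Cfsg.Agent.H966.RowM.no_order (e g) (by rw [MulEquiv.orderOf_eq, hg])

end Cfsg.Agent.H642.Mono
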