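import Cfsg.Agent.H642.MonoPair
import Cfsg.Agent.H638.FD.Blk
import Cfsg.Agent.H684.CoverCount_m3
import Cfsg.Agent.H672.Ext
import Cfsg.Agent.H627.PrincipalCount
import Cfsg.Agent.H34.SporTool2_m3
import Cfsg.Agent.S1680
import Cfsg.Agent.OddHalf.MM.Main_m3
import Cfsg.Agent.S1624
import Cfsg.Agent.KFacts.J2.Basic
import Cfsg.Agent.J2Type.ThreeF
import Cfsg.Agent.J2Type.SylowSeven
import Cfsg.Agent.Prune
set_option linter.all false
prune_inst 0x7f00000000000000000000000000000000000000000000000000000000000000000000000000000000000000000000000000000000000000000000000000000000000000000000000000000000000000003fffffffffffffffffffffffffffbeffbdffffffff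
open scoped Cfsg.Agent.FastGrp

-- part: H642/MonoRel
section
/-!
# The degree relation of the principal block of a simple group with a self-centralising element of prime order
(helper642, for S4572)
-/

set_option autoImplicit false
set_option linter.unusedSectionVars false
set_option linter.unusedVariables false

namespace Cfsg.Agent.H642.Mono

open Subgroup Cfsg Cfsg.Agent.Characters
open Cfsg.Agent.H361.SelfCent Cfsg.Agent.H408.EngStr

universe u

variable {S : Type u} [Group S] [Finite S] {r m : ℕ} {x : S}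

theorem sit_e (h : Sit S r m x) (hm : m ≠ 1) :
    ∃ e, e ∣ r - 1 ∧ Nat.card (normalizer ((zpowers x : Subgroup S) : Set S)) = r * e ∧ m % r = e ∧ 0 < e := by
  have hr := h.prime
  have hrf : Fact r.Prime := ⟨hr⟩
  obtain ⟨e, he1, he2⟩ := h.card_norm hm
  have hsyl := h.card_sylow_mul hm he2
  have he0 : 0 < e := by
    rcases Nat.eq_zero_or_pos e with h | h
    · exfalso
      rw [h, zero_dvd_iff] at he1
      have := hr.one_lt
      omega
    · exact h
  refine ⟨e, he1, he2, ?_, he0⟩
  have h1 : Nat.card (Sylow r S) ≡ 1 [MOD r] := card_sylow_modEq_one r S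
  have h2 : m ≡ e [MOD r] := by
    rw [← hsyl]
    simpa using h1.mul_right e
  have hlt : e < r := by
    have := Nat.le_of_dvd (Nat.sub_pos_of_lt hr.one_lt) he1
    have := hr.one_lt
    omega
  rw [← Nat.mod_eq_of_lt hlt]
  exact h2

/-- the principal block -/
theorem blockRel [IsSimpleGroup S] (h : Sit S r m x) (hm : m ≠ 1) :
    ∃ (X Y : Finset (IrrCharacter S)) (δ : IrrCharacter S → ℤ) (δ₀ : ℤ),
      (∀ χ : IrrCharacter S, ¬ r ∣ charDegree (χ : S → ℂ) → χ ∈ X ∨ χ ∈ Y) ∧ Disjoint X Y ∧ X.card = m % r ∧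
      Y.Nonempty ∧ CCValues.one S ∈ X ∧ δ (CCValues.one S) = 1 ∧
      (∀ χ ∈ X, δ χ = 1 ∨ δ χ = -1) ∧ (δ₀ = 1 ∨ δ₀ = -1) ∧
      (∀ χ ∈ X, (r : ℤ) ∣ δ χ * (charDegree (χ : S → ℂ) : ℤ) - 1) ∧
      (∀ ψ ∈ Y, (r : ℤ) ∣ (charDegree (ψ : S → ℂ) : ℤ) + (m % r : ℕ) * δ₀) ∧
      (∀ ψ ∈ Y, δ₀ * (charDegree (ψ : S → ℂ) : ℤ) + ∑ χ ∈ X, δ χ * (charDegree (χ : S → ℂ) : ℤ) = 0) := by
  have hr := h.prime
  have hrf : Fact r.Prime := ⟨hr⟩
  obtain ⟨e, he1, he2, he3, he0⟩ := sit_e h hm
  have hm0 : m ≠ 0 := by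
    rintro rfl
    exact h.ndvd (dvd_zero _)
  have hfac : (Nat.card S).factorization r = 1 := by
    rw [h.card, Nat.factorization_mul hr.ne_zero hm0, Finsupp.add_apply, hr.factorization_self,
      Nat.factorization_eq_zero_of_not_dvd h.ndvd]
  have hcx : Nat.card (zpowers x) = r := by rw [Nat.card_zpowers, h.orderOf_eq hm]
  let P : Sylow r S := Sylow.ofCard (zpowers x) (by rw [hfac, pow_one, hcx])
  have hP : (P : Subgroup S) = zpowers x := rfl
  have hPc : Nat.card P = r ^ 1 := by
    rw [pow_one]; exact hcx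
  have hPcyc : IsCyclic P := isCyclic_of_prime_card (p := r) hcx
  have hCP : centralizer ((P : Subgroup S) : Set S) = P := by
    rw [hP, Subgroup.zpowers_eq_closure, Subgroup.centralizer_closure, ← Subgroup.zpowers_eq_closure]
    exact h.cent_eq hm
  have hrel : (centralizer ((P : Subgroup S) : Set S)).relIndex (normalizer ((P : Subgroup S) : Set S)) = e := by
    have h1 := Subgroup.card_mul_index ((centralizer ((P : Subgroup S) : Set S)).subgroupOf
      (normalizer ((P : Subgroup S) : Set S)))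
    rw [Nat.card_congr (Subgroup.subgroupOfEquivOfLe (Subgroup.centralizer_le_normalizer _)).toEquiv, hCP] at h1
    have h2 : Nat.card (normalizer ((P : Subgroup S) : Set S)) = r * e := he2
    have h3 : Nat.card (P : Subgroup S) = r := hcx
    rw [h2, h3] at h1
    rw [hCP]
    exact Nat.eq_of_mul_eq_mul_left hr.pos h1
  obtain ⟨M, hM⟩ := Cfsg.Agent.Blocks.ExistsModular.exists_isPModular hr
  obtain ⟨-, X, Y, δ, δ₀, hB, hd, hX, hY, h1X, hδ1, hδ, hδ₀, hcX, hcY, hsum⟩ :=
    Cfsg.Agent.H638.FD.Blk.struct hM P hPcyc le_rfl hPc hrel (by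
      intro N hN hi
      rcases hN.eq_bot_or_eq_top with h1 | h1
      · rw [h1, Subgroup.index_bot, h.card] at hi
        apply hm
        have h2 : r * m = r * 1 := by rw [hi, mul_one]
        exact Nat.eq_of_mul_eq_mul_left hr.pos h2
      · rw [h1, Subgroup.index_top] at hi
        exact hr.one_lt.ne hi)
  rw [pow_one] at hcX hcY hY
  refine ⟨X, Y, δ, δ₀, fun χ hχ => ?_, hd, by rw [hX, he3], ?_, h1X, hδ1, hδ, hδ₀, hcX, ?_, hsum⟩
  · rw [← hB]
    have hPp : IsPGroup r (P : Subgroup S) := P.isPGroup'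
    exact Cfsg.Agent.H684.Principal.mem_of_not_dvd hM hPp (by rw [hCP]; exact hPp) χ hχ
  · rw [← Finset.card_pos, hY]
    apply Nat.div_pos _ he0
    exact Nat.le_of_dvd (Nat.sub_pos_of_lt hr.one_lt) he1
  · rw [he3]
    exact hcY

end Cfsg.Agent.H642.Mono
end

-- part: H642/MonoDich
section
/-!
# Degrees prime to `r` of a simple group whose almost simple extension is a counterexample (helper642, for S4572)

`dichotomy` : a nontrivial irreducible character `θ` of `S` of degree prime to `r` lies below a character of `A` of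
degree `D`, or below a monomial one. `mem_tvals` : the possible degrees of `θ`.
-/

set_option autoImplicit false
set_option linter.unusedSectionVars false
set_option linter.unusedVariables false

namespace Cfsg.Agent.H642.Mono

open Cfsg Cfsg.Agent.H649.MN Cfsg.Agent.Characters.Core Cfsg.Agent.H902.Mono
open Cfsg.Agent.H361.SelfCent Cfsg.Agent.OrdDiv Cfsg.Agent.H672

universe u

section

variable {A : Type} [Group A] [Fintype A] {S : Type u} [Group S] [Finite S] [IsSimpleGroup S]

theorem exists_above (f : S →* A) (hf : Function.Injective f) (hN : (f.range).Normal) {θ : S → ℂ}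
    (hθ : IsIrrCharacter S θ) (hne : θ ≠ 1) :
    ∃ χ : A → ℂ, IsIrrCharacter A χ ∧ (∃ s : S, χ (f s) ≠ χ 1) ∧
      ∃ c, c ∣ (f.range).index ∧ charDegree χ = c * charDegree θ := by
  classical
  let _ : Fintype S := Fintype.ofFinite S
  let e : S ≃* f.range := MonoidHom.ofInjective hf
  have hθ' : IsIrrCharacter f.range (θ ∘ e.symm) :=
    isIrr_comp (e.symm : f.range →* S) e.symm.surjective hθ
  obtain ⟨χ, hχ, hov⟩ := exists_over_subtype f.range hθ'
  have hov' : Over f χ θ := by
    rw [← over_comp_equiv f.range.subtype e] at hov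
    have e1 : f.range.subtype.comp e.toMonoidHom = f := by ext; rfl
    have e2 : (θ ∘ e.symm) ∘ e = θ := by funext x; simp
    rwa [e1, e2] at hov
  refine ⟨χ, hχ, ?_, ?_⟩
  · by_contra hcon
    push Not at hcon
    have h1 : χ ∘ f = (χ 1) • (1 : S → ℂ) := by
      funext s
      simp [hcon s]
    rw [over_iff, h1, classInner_smul_left, classInner_irr_ne isIrr_one hθ (Ne.symm hne), mul_zero] at hov'
    exact hov' rfl
  · obtain ⟨h1, h2⟩ := charDegree_dvd_of_over_hom f hf hN hχ hθ hov'
    exact ⟨_, h2, (Nat.div_mul_cancel h1).symm⟩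

/-- the minimality of `D` -/
theorem le_degree (hna : ¬ IsMulCommutative S) (f : S →* A) (hf : Function.Injective f) (hN : (f.range).Normal)
    {D : ℕ} (hEq : ∀ χ : A → ℂ, NonMono f χ → χ 1 = (D : ℂ)) {θ : S → ℂ} (hθ : IsIrrCharacter S θ)
    (hne : θ ≠ 1) : D ≤ (f.range).index * charDegree θ := by
  obtain ⟨χ, hχ, ⟨s, hs⟩, c, hc, hd⟩ := exists_above f hf hN hθ hne
  have h1 := le_charDegree (T := f.range) (by
      intro g
      have h1 := hom_eq_one hna (g.comp f.rangeRestrict)
      ext x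
      obtain ⟨_, s, rfl⟩ := x
      have := congrArg (fun k : S →* ℂˣ => k s) h1
      exact congrArg Units.val this) (d := D) (fun ψ hψ hnt hm => by
    obtain ⟨_, ⟨s, rfl⟩, hs⟩ := hnt
    have h4 := hEq ψ ⟨hψ, ⟨s, hs⟩, hm⟩
    rw [Cfsg.Agent.Blocks.Basic.irr_one_eq_charDegree hψ] at h4
    exact_mod_cast h4) hχ ⟨f s, ⟨s, rfl⟩, hs⟩
  rw [hd] at h1
  exact h1.trans (Nat.mul_le_mul_right _ (Nat.le_of_dvd (Nat.pos_of_ne_zero Subgroup.FiniteIndex.index_ne_zero) hc))

/-- **The dichotomy.** -/
theorem dichotomy (hna : ¬ IsMulCommutative S) (f : S →* A) (hf : Function.Injective f) (hN : (f.range).Normal)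
    {D : ℕ} (hEq : ∀ χ : A → ℂ, NonMono f χ → χ 1 = (D : ℂ)) {r m : ℕ} {x : S} (h : Sit S r m x) (hm : m ≠ 1)
    (hri : ¬ r ∣ (f.range).index) {θ : S → ℂ} (hθ : IsIrrCharacter S θ) (hne : θ ≠ 1)
    (hrd : ¬ r ∣ charDegree θ) :
    ∃ c, c ∣ (f.range).index ∧ (c * charDegree θ = D ∨ ∃ L : Subgroup S, x ∈ L ∧ (∃ nu : L →* ℂˣ, nu ≠ 1) ∧
      L.index ∣ c * charDegree θ ∧ c * charDegree θ ∣ (f.range).index * L.index ∧
      L.index ^ 2 < (f.range).index * Nat.card S) := by
  classical
  have hrf : Fact r.Prime := ⟨h.prime⟩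
  obtain ⟨χ, hχ, hnt, c, hc, hd⟩ := exists_above f hf hN hθ hne
  refine ⟨c, hc, ?_⟩
  rw [← hd]
  by_cases hmo : Mono A χ
  · right
    have h0 : χ (f x) ≠ 0 := by
      refine Cfsg.Agent.H627.PrincipalCount.apply_ne_zero (p := r) (isIrr_isCharacter hχ) ?_ (f x)
        ⟨1, by rw [orderOf_injective f hf, h.orderOf_eq hm, pow_one]⟩
      rw [hd]
      intro h1
      rcases h.prime.dvd_mul.1 h1 with h2 | h2
      · exact hri (h2.trans hc)
      · exact hrd h2
    obtain ⟨K, mu, -, hK, -, hxK, hnu, hKi, hKs⟩ := mono_sub hna f hN hf hχ hnt hmo h0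
    have hKd : charDegree χ = K.index := Cfsg.Agent.Blocks.Basic.charDegree_of_eq hK
    have hcA : Nat.card A = (f.range).index * Nat.card S := by
      rw [← Subgroup.card_mul_index f.range, mul_comm]
      congr 1
      exact (Nat.card_congr (MonoidHom.ofInjective hf).toEquiv).symm
    refine ⟨K.comap f, hxK, hnu, hKd ▸ hKi, ?_, ?_⟩
    · rw [hKd]
      have h1 : (K ⊓ f.range).index = (f.range).index * (K.comap f).index := by
        have h2 : K.relIndex f.range = (K.comap f).index := by
          rw [MonoidHom.range_eq_map, ← Subgroup.relIndex_comap, Subgroup.relIndex_top_right]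
        rw [← h2, ← Subgroup.inf_relIndex_right K f.range, mul_comm]
        exact (Subgroup.relIndex_mul_index inf_le_right).symm
      rw [← h1]
      exact Subgroup.index_dvd_of_le inf_le_left
    · rw [← hcA]
      refine lt_of_le_of_lt (Nat.pow_le_pow_left (Nat.le_of_dvd ?_ hKi) 2) hKs
      exact Nat.pos_of_ne_zero Subgroup.FiniteIndex.index_ne_zero
  · left
    have h1 := hEq χ ⟨hχ, hnt, hmo⟩
    rw [Cfsg.Agent.Blocks.Basic.irr_one_eq_charDegree hχ] at h1
    exact_mod_cast h1

end

/-- possible degrees of characters of `A` -/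
def mvals (a D : ℕ) (I : List ℕ) : List ℕ := D :: (I ++ if a == 2 then I.map (2 * ·) else [])

/-- possible degrees of characters of `S` -/
def tvals (n a D : ℕ) (I : List ℕ) : List ℕ :=
  ((mvals a D I).flatMap fun m => m :: (if (a == 2) && (m % 2 == 0) then [m / 2] else [])).filter fun v =>
    Nat.ble 3 v && (n % v == 0) && Nat.blt (v * v) n && Nat.ble D (a * v)

theorem mem_tvals {n a D c v i : ℕ} {I : List ℕ} (ha : a ∣ 2) (hc : c ∣ a)
    (h : c * v = D ∨ (i ∈ I ∧ i ∣ c * v ∧ c * v ∣ a * i)) (h3 : 3 ≤ v) (hn : v ∣ n) (hlt : v * v < n)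
    (hD : D ≤ a * v) : v ∈ tvals n a D I := by
  have ha' : a = 1 ∨ a = 2 := (Nat.dvd_prime Nat.prime_two).1 ha
  have hm : c * v ∈ mvals a D I := by
    unfold mvals
    rcases h with h | ⟨h1, h2, h4⟩
    · rw [h]; exact List.mem_cons_self
    · apply List.mem_cons_of_mem
      rw [List.mem_append]
      rcases ha' with rfl | rfl
      · left
        rw [one_mul] at h4
        rwa [Nat.dvd_antisymm h4 h2]
      · obtain ⟨k, hk⟩ := h2
        have hi : 0 < i := by
          rcases Nat.eq_zero_or_pos i with h5 | h5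
          · exfalso
            rw [h5, zero_mul] at hk
            rcases Nat.mul_eq_zero.1 hk with h6 | h6
            · rw [h6] at hc
              exact absurd (zero_dvd_iff.1 hc) (by norm_num)
            · omega
          · exact h5
        have h5 : k ∣ 2 := by
          rw [hk, mul_comm i k] at h4
          exact Nat.dvd_of_mul_dvd_mul_right hi h4
        rcases (Nat.dvd_prime Nat.prime_two).1 h5 with rfl | rfl
        · left
          rw [hk, mul_one]; exact h1
        · right
          simp only [beq_self_eq_true, if_true, List.mem_map]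
          exact ⟨i, h1, by rw [hk, mul_comm]⟩
  unfold tvals
  rw [List.mem_filter]
  refine ⟨?_, ?_⟩
  · rw [List.mem_flatMap]
    refine ⟨c * v, hm, ?_⟩
    rcases ha' with rfl | rfl
    · rw [Nat.dvd_one.1 hc, one_mul]
      exact List.mem_cons_self
    · rcases (Nat.dvd_prime Nat.prime_two).1 hc with rfl | rfl
      · rw [one_mul]
        exact List.mem_cons_self
      · apply List.mem_cons_of_mem
        have h5 : 2 * v % 2 = 0 := by omega
        have h6 : 2 * v / 2 = v := by omega
        rw [h5, h6]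
        simp
  · simp only [Bool.and_eq_true, Nat.ble_eq, beq_iff_eq]
    refine ⟨⟨⟨h3, Nat.mod_eq_zero_of_dvd hn⟩, ?_⟩, hD⟩
    simpa [Nat.blt] using hlt

end Cfsg.Agent.H642.Mono
end

-- part: H642/MonoEq
section
/-!
# The check of the degree relation of the principal block (helper642, for S4572)
-/

set_option autoImplicit false
set_option linter.unusedSectionVars false
set_option linter.unusedVariables false

namespace Cfsg.Agent.H642.Mono

open Cfsg Cfsg.Agent.H649.MN Cfsg.Agent.Characters.Core Cfsg.Agent.H902.Mono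
open Cfsg.Agent.H361.SelfCent Cfsg.Agent.OrdDiv Cfsg.Agent.Characters

universe u

/-- the sums of `k` members of the list (with repetitions) -/
def sumsM : List ℕ → ℕ → List ℕ
  | [], k => if k == 0 then [0] else []
  | z :: L, k => (List.range (k + 1)).flatMap fun j => (sumsM L (k - j)).map fun t => j * z + t

theorem mem_sumsM {ι : Type*} (f : ι → ℕ) : ∀ (L : List ℕ) (s : Finset ι), (∀ i ∈ s, f i ∈ L) →
    ∑ i ∈ s, f i ∈ sumsM L s.card := by
  classical
  intro L
  induction L with
  | nil =>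
    intro s hs
    have h1 : s = ∅ := by
      rw [Finset.eq_empty_iff_forall_notMem]
      intro i hi
      exact absurd (hs i hi) List.not_mem_nil
    rw [h1]
    simp [sumsM]
  | cons z L ih =>
    intro s hs
    have h1 := ih (s.filter fun i => ¬ f i = z) (fun i hi => by
      rw [Finset.mem_filter] at hi
      rcases List.mem_cons.1 (hs i hi.1) with h2 | h2
      · exact absurd h2 hi.2
      · exact h2)
    have h2 := Finset.card_filter_add_card_filter_not (s := s) (fun i => f i = z)
    have h3 := Finset.sum_filter_add_sum_filter_not s (fun i => f i = z) f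
    have h4 : ∑ i ∈ s.filter (fun i => f i = z), f i = (s.filter fun i => f i = z).card * z := by
      rw [Finset.sum_congr rfl (fun i hi => (Finset.mem_filter.1 hi).2), Finset.sum_const, smul_eq_mul]
    rw [sumsM, List.mem_flatMap]
    refine ⟨(s.filter fun i => f i = z).card, ?_, ?_⟩
    · rw [List.mem_range]
      omega
    · rw [List.mem_map]
      have h5 : s.card - (s.filter fun i => f i = z).card = (s.filter fun i => ¬ f i = z).card := by omega
      rw [h5]
      exact ⟨_, h1, by rw [← h3, h4]⟩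

/-- remove duplicates -/
def undup : List ℕ → List ℕ
  | [] => []
  | x :: l => if l.contains x then undup l else x :: undup l

theorem mem_undup {x : ℕ} : ∀ {l : List ℕ}, x ∈ l → x ∈ undup l := by
  intro l
  induction l with
  | nil => intro h; exact h
  | cons y l ih =>
    intro h
    unfold undup
    rcases List.mem_cons.1 h with h | h
    · subst h
      split_ifs with h1
      · exact ih (by simpa using h1)
      · exact List.mem_cons_self
    · split_ifs with h1
      · exact ih h
      · exact List.mem_cons_of_mem _ (ih h)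

/-- the shifted values of the nonexceptional characters -/
def nvals (r B : ℕ) (V : List ℕ) : List ℕ :=
  V.flatMap fun v => (if v % r == 1 then [B + v] else []) ++ (if v % r == r - 1 then [B - v] else [])

/-- the shifted values of the exceptional characters -/
def xvals (r e B : ℕ) (V : List ℕ) : List ℕ :=
  V.flatMap fun v => (if v % r == r - e then [B + v] else []) ++ (if v % r == e then [B - v] else [])

/-- the check: no solution of the degree relation -/
def chkSum (e M B : ℕ) (N X : List ℕ) : Bool :=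
  (List.range e).all fun c => (sumsM (N.filter fun z => z % M != 0) c).all fun s => X.all fun x =>
    ((1 + s + x) % M != 0) ||
      (sumsM (N.filter fun z => z % M == 0) (e - 1 - c)).all fun t => 1 + s + t + x != e * B

def chkRel (n r a D M : ℕ) (I : List ℕ) : Bool :=
  chkSum ((n / r) % r) M (M * n) (undup (nvals r (M * n) (tvals n a D I)))
    (undup (xvals r ((n / r) % r) (M * n) (tvals n a D I)))

theorem sum_false {ι : Type*} {e M B : ℕ} {N X : List ℕ} (hM : M ≠ 0) (hMB : M ∣ B)
    (hchk : chkSum e M B N X = true) (s : Finset ι) (f : ι → ℕ) (hs : s.card + 1 = e) (hf : ∀ i ∈ s, f i ∈ N)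
    {x : ℕ} (hx : x ∈ X) (h : 1 + ∑ i ∈ s, f i + x = e * B) : False := by
  classical
  unfold chkSum at hchk
  rw [List.all_eq_true] at hchk
  have h1 := mem_sumsM f (N.filter fun z => z % M != 0) (s.filter fun i => f i % M ≠ 0) (fun i hi => by
    rw [Finset.mem_filter] at hi
    rw [List.mem_filter]
    exact ⟨hf i hi.1, by simpa using hi.2⟩)
  have h2 := mem_sumsM f (N.filter fun z => z % M == 0) (s.filter fun i => ¬ f i % M ≠ 0) (fun i hi => by
    rw [Finset.mem_filter] at hi
    rw [List.mem_filter]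
    exact ⟨hf i hi.1, by simpa using hi.2⟩)
  have h3 := Finset.card_filter_add_card_filter_not (s := s) (fun i => f i % M ≠ 0)
  have h4 := Finset.sum_filter_add_sum_filter_not s (fun i => f i % M ≠ 0) f
  set s1 := s.filter fun i => f i % M ≠ 0 with hs1
  set s2 := s.filter fun i => ¬ f i % M ≠ 0 with hs2
  have h5 := hchk s1.card (by rw [List.mem_range]; omega)
  rw [List.all_eq_true] at h5
  have h6 := h5 _ h1
  rw [List.all_eq_true] at h6
  have h7 := h6 x hx
  rw [Bool.or_eq_true] at h7
  have h8 : M ∣ ∑ i ∈ s2, f i := by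
    apply Finset.dvd_sum
    intro i hi
    rw [hs2, Finset.mem_filter, not_not] at hi
    exact Nat.dvd_of_mod_eq_zero hi.2
  rcases h7 with h7 | h7
  · rw [bne_iff_ne] at h7
    apply h7
    apply Nat.mod_eq_zero_of_dvd
    have h9 : M ∣ 1 + ∑ i ∈ s1, f i + x + ∑ i ∈ s2, f i := by
      have h10 : 1 + ∑ i ∈ s1, f i + x + ∑ i ∈ s2, f i = e * B := by rw [← h, ← h4]; ring
      rw [h10]
      exact Dvd.dvd.mul_left hMB e
    exact (Nat.dvd_add_left h8).1 h9
  · rw [List.all_eq_true] at h7
    have h9 : e - 1 - s1.card = s2.card := by omega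
    rw [h9] at h7
    have h10 := h7 _ h2
    rw [bne_iff_ne] at h10
    apply h10
    rw [← h, ← h4]
    ring

/-- no solution of the degree relation -/
theorem rel_false {S : Type u} [Group S] [Finite S] [IsSimpleGroup S] {r m n a D M : ℕ} {x : S} {I : List ℕ}
    (h : Sit S r m x) (hm : m ≠ 1) (hn : Nat.card S = n) (hM : M ≠ 0)
    (hV : ∀ θ : S → ℂ, IsIrrCharacter S θ → θ ≠ 1 → ¬ r ∣ charDegree θ → charDegree θ ∈ tvals n a D I)
    (hchk : chkRel n r a D M I = true) : False := by
  classical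
  have hr := h.prime
  have hnr : n / r = m := by rw [← hn, h.card]; exact Nat.mul_div_cancel_left _ hr.pos
  have hnpos : 0 < n := by rw [← hn]; exact Nat.card_pos
  obtain ⟨e, he1, he2, he3, he0⟩ := sit_e h hm
  have her : e < r := by
    have := Nat.le_of_dvd (Nat.sub_pos_of_lt hr.one_lt) he1
    have := hr.one_lt
    omega
  obtain ⟨X, Y, δ, δ₀, hB, hd, hX, ⟨ψ, hψ⟩, h1X, hδ1, hδ, hδ₀, hcX, hcY, hsum⟩ := blockRel h hm
  rw [he3] at hX hcY
  unfold chkRel at hchk
  rw [hnr, he3] at hchk
  set B := M * n with hBdef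
  set V := tvals n a D I with hVdef
  -- members of `V` are at most `B`
  have hVle : ∀ θ : S → ℂ, IsIrrCharacter S θ → charDegree θ ≤ B := by
    intro θ hθ
    have h1 : charDegree θ ∣ Nat.card S := Cfsg.Agent.Blocks.Knorr.charDegree_dvd hθ
    rw [hn] at h1
    have h2 := Nat.le_of_dvd hnpos h1
    have h3 : 1 * n ≤ M * n := Nat.mul_le_mul_right _ (Nat.one_le_iff_ne_zero.2 hM)
    omega
  have hprimeX : ∀ χ ∈ X, ¬ r ∣ charDegree (χ : S → ℂ) := by
    intro χ hχ h1
    have h2 : (r : ℤ) ∣ δ χ * (charDegree (χ : S → ℂ) : ℤ) := Dvd.dvd.mul_left (by exact_mod_cast h1) _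
    have h3 : (r : ℤ) ∣ 1 := by
      have := dvd_sub h2 (hcX χ hχ)
      rwa [sub_sub_cancel] at this
    have h4 : r ∣ 1 := by exact_mod_cast h3
    exact hr.one_lt.ne' (Nat.dvd_one.1 h4)
  have hprimeY : ¬ r ∣ charDegree (ψ : S → ℂ) := by
    intro h1
    have h2 : (r : ℤ) ∣ (charDegree (ψ : S → ℂ) : ℤ) := by exact_mod_cast h1
    have h3 := (dvd_add_right h2).1 (hcY ψ hψ)
    have h4 : (r : ℤ) ∣ (e : ℤ) := by
      rcases hδ₀ with h5 | h5 <;> rw [h5] at h3
      · simpa using h3
      · simpa using h3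
    have h5 : r ∣ e := by exact_mod_cast h4
    exact absurd (Nat.le_of_dvd he0 h5) (by omega)
  have hneX : ∀ χ : IrrCharacter S, χ ≠ CCValues.one S → (χ : S → ℂ) ≠ 1 := by
    intro χ hχ h1
    apply hχ
    apply Subtype.ext
    rw [h1]
    rfl
  have hψ1 : ψ ≠ CCValues.one S := by
    rintro rfl
    exact Finset.disjoint_left.1 hd h1X hψ
  -- the shifted values
  let sh : IrrCharacter S → ℕ := fun χ => if δ χ = 1 then B + charDegree (χ : S → ℂ) else B - charDegree (χ : S → ℂ)
  have hsh : ∀ χ ∈ X, (sh χ : ℤ) = B + δ χ * (charDegree (χ : S → ℂ) : ℤ) := by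
    intro χ hχ
    have h1 := hVle χ χ.2
    rcases hδ χ hχ with h2 | h2
    · simp only [sh]
      rw [if_pos h2, h2]
      push_cast
      ring
    · simp only [sh]
      rw [if_neg (by rw [h2]; norm_num), h2]
      push_cast [Nat.cast_sub h1]
      ring
  have hmodX : ∀ χ ∈ X, (δ χ = 1 → charDegree (χ : S → ℂ) % r = 1) ∧ (δ χ = -1 → charDegree (χ : S → ℂ) % r = r - 1) := by
    intro χ hχ
    have h1 := hcX χ hχ
    constructor
    · intro h2
      rw [h2, one_mul] at h1
      have h3 : (charDegree (χ : S → ℂ) : ℤ) ≡ 1 [ZMOD r] := (Int.modEq_iff_dvd.2 (by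
        have := (dvd_neg (α := ℤ)).2 h1
        rwa [neg_sub] at this))
      have h4 : charDegree (χ : S → ℂ) ≡ 1 [MOD r] := by
        rw [← Int.natCast_modEq_iff]
        exact_mod_cast h3
      have h5 : charDegree (χ : S → ℂ) % r = 1 % r := h4
      rw [h5, Nat.mod_eq_of_lt hr.one_lt]
    · intro h2
      rw [h2] at h1
      have h3 : (r : ℤ) ∣ ((charDegree (χ : S → ℂ) + 1 : ℕ) : ℤ) := by
        have := (dvd_neg (α := ℤ)).2 h1
        have e0 : -(-1 * (charDegree (χ : S → ℂ) : ℤ) - 1) = ((charDegree (χ : S → ℂ) + 1 : ℕ) : ℤ) := by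
          push_cast; ring
        rwa [e0] at this
      have h4 : r ∣ charDegree (χ : S → ℂ) + 1 := by exact_mod_cast h3
      obtain ⟨k, hk⟩ := h4
      have h5 : k ≠ 0 := by rintro rfl; simp at hk
      obtain ⟨k, rfl⟩ := Nat.exists_eq_succ_of_ne_zero h5
      have h6 : charDegree (χ : S → ℂ) = r - 1 + r * k := by
        have : r * (k + 1) = r * k + r := by ring
        have := hr.one_lt
        rw [Nat.succ_eq_add_one] at hk
        omega
      rw [h6, Nat.add_mul_mod_self_left, Nat.mod_eq_of_lt (by have := hr.one_lt; omega)]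
  have hxmem : ∃ xv ∈ xvals r e B V, (xv : ℤ) = B + δ₀ * (charDegree (ψ : S → ℂ) : ℤ) := by
    have hv := hV ψ ψ.2 (hneX ψ hψ1) hprimeY
    have h1 := hVle ψ ψ.2
    have h2 := hcY ψ hψ
    rcases hδ₀ with h3 | h3
    · refine ⟨B + charDegree (ψ : S → ℂ), ?_, by rw [h3]; push_cast; ring⟩
      unfold xvals
      rw [List.mem_flatMap]
      refine ⟨_, hv, ?_⟩
      rw [h3, mul_one] at h2
      have h4 : r ∣ charDegree (ψ : S → ℂ) + e := by exact_mod_cast h2
      obtain ⟨k, hk⟩ := h4
      have h5 : k ≠ 0 := by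
        rintro rfl
        have := Cfsg.Agent.H672.charDegree_pos ψ.2
        simp at hk
        omega
      obtain ⟨k, rfl⟩ := Nat.exists_eq_succ_of_ne_zero h5
      have h6 : charDegree (ψ : S → ℂ) = r - e + r * k := by
        have : r * (k + 1) = r * k + r := by ring
        rw [Nat.succ_eq_add_one] at hk
        omega
      have h7 : charDegree (ψ : S → ℂ) % r = r - e := by
        rw [h6, Nat.add_mul_mod_self_left, Nat.mod_eq_of_lt (by omega)]
      rw [h7]
      simp
    · refine ⟨B - charDegree (ψ : S → ℂ), ?_, by rw [h3]; push_cast [Nat.cast_sub h1]; ring⟩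
      unfold xvals
      rw [List.mem_flatMap]
      refine ⟨_, hv, ?_⟩
      rw [h3] at h2
      have h4 : (e : ℤ) ≡ (charDegree (ψ : S → ℂ) : ℤ) [ZMOD r] := by
        apply Int.modEq_iff_dvd.2
        have e0 : (charDegree (ψ : S → ℂ) : ℤ) - e = (charDegree (ψ : S → ℂ) : ℤ) + e * -1 := by ring
        rw [e0]
        exact h2
      have h5 : e ≡ charDegree (ψ : S → ℂ) [MOD r] := by
        rw [← Int.natCast_modEq_iff]
        exact h4
      have h6 : e % r = charDegree (ψ : S → ℂ) % r := h5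
      rw [Nat.mod_eq_of_lt her] at h6
      rw [← h6]
      simp
  obtain ⟨xv, hxv, hxv'⟩ := hxmem
  refine sum_false (ι := IrrCharacter S) hM (Dvd.intro _ hBdef.symm) hchk (X.erase (CCValues.one S)) sh ?_ ?_
    (mem_undup hxv) ?_
  · rw [Finset.card_erase_of_mem h1X, hX]
    omega
  · intro χ hχ
    have hχX := Finset.mem_of_mem_erase hχ
    have hv := hV χ χ.2 (hneX χ (Finset.ne_of_mem_erase hχ)) (hprimeX χ hχX)
    apply mem_undup
    unfold nvals
    rw [List.mem_flatMap]
    refine ⟨_, hv, ?_⟩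
    rcases hδ χ hχX with h2 | h2
    · have h3 := (hmodX χ hχX).1 h2
      have h4 : sh χ = B + charDegree (χ : S → ℂ) := if_pos h2
      rw [h4, h3]
      simp
    · have h3 := (hmodX χ hχX).2 h2
      have h4 : sh χ = B - charDegree (χ : S → ℂ) := if_neg (by rw [h2]; norm_num)
      rw [h4, h3]
      simp
  · have h1 : ((1 + ∑ i ∈ X.erase (CCValues.one S), sh i + xv : ℕ) : ℤ) = ((e * B : ℕ) : ℤ) := by
      push_cast
      rw [hxv', Finset.sum_congr rfl (fun χ hχ => hsh χ (Finset.mem_of_mem_erase hχ)), Finset.sum_add_distrib,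
        Finset.sum_const, Finset.card_erase_of_mem h1X, hX, nsmul_eq_mul]
      have h2 := hsum ψ hψ
      rw [← Finset.add_sum_erase X _ h1X, hδ1, Cfsg.Agent.H638.FD.Blk.deg_one] at h2
      have h3 : ((e - 1 : ℕ) : ℤ) = e - 1 := by
        rw [Nat.cast_sub he0]; rfl
      rw [h3]
      push_cast at h2
      linear_combination h2
    exact_mod_cast h1

end Cfsg.Agent.H642.Mono
end

-- part: H642/MonoTab
section
/-!
# GoodMono from the degree relation (helper642, for S4572)

`good_of_rel` : the row of a simple group of order `n` with a self-centralising element of order `r`, and a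
numerical check of all possible degrees `D`.
-/

set_option autoImplicit false
set_option linter.unusedSectionVars false
set_option linter.unusedVariables false

namespace Cfsg.Agent.H642.Mono

open Cfsg Cfsg.Agent.H649.MN Cfsg.Agent.Characters.Core Cfsg.Agent.H902.Mono
open Cfsg.Agent.H361.SelfCent Cfsg.Agent.OrdDiv Cfsg.Agent.Characters

universe u

/-- divisors -/
def divl : List (ℕ × ℕ) → List ℕ
  | [] => [1]
  | x :: l => (divl l).flatMap fun k => (List.range (x.2 + 1)).map fun a => x.1 ^ a * k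

theorem mem_divl : ∀ (l : List (ℕ × ℕ)) (N : ℕ), (∀ x ∈ l, (x.1).Prime) → N ≠ 0 →
    (∀ x ∈ l, ¬ x.1 ^ (x.2 + 1) ∣ N) → (∀ s, s.Prime → s ∣ N → s ∈ l.map fun x => x.1) → N ∈ divl l := by
  intro l
  induction l with
  | nil =>
    intro N _ hN _ hP
    have h1 : N = 1 := by
      by_contra hne
      obtain ⟨s, hs, hsN⟩ := Nat.exists_prime_and_dvd hne
      exact absurd (hP s hs hsN) List.not_mem_nil
    rw [h1]
    simp [divl]
  | cons x l ih =>
    intro N hp hN hex hP
    have hx := hp x (List.mem_cons_self)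
    set a := N.factorization x.1 with ha
    have hdec : x.1 ^ a * (N / x.1 ^ a) = N := Nat.ordProj_mul_ordCompl_eq_self N x.1
    have hax : a ≤ x.2 := by
      by_contra h
      apply hex x (List.mem_cons_self)
      refine (pow_dvd_pow x.1 (show x.2 + 1 ≤ a by omega)).trans ?_
      exact Nat.ordProj_dvd N x.1
    set N' := N / x.1 ^ a with hN'
    have hN'0 : N' ≠ 0 := by
      intro h
      rw [h, mul_zero] at hdec
      exact hN hdec.symm
    have hdN' : N' ∣ N := Dvd.intro_left _ hdec
    have h2 : N' ∈ divl l := by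
      apply ih N' (fun y hy => hp y (List.mem_cons_of_mem _ hy)) hN'0
        (fun y hy h3 => hex y (List.mem_cons_of_mem _ hy) (h3.trans hdN'))
      intro s hs hsN
      have h3 := hP s hs (hsN.trans hdN')
      rw [List.map_cons, List.mem_cons] at h3
      rcases h3 with h3 | h3
      · exfalso
        rw [h3] at hsN
        exact Nat.not_dvd_ordCompl hx hN hsN
      · exact h3
    rw [divl, List.mem_flatMap]
    refine ⟨N', h2, ?_⟩
    rw [List.mem_map]
    exact ⟨a, List.mem_range.2 (by omega), hdec⟩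

/-- the exponents allowed for the degree `D` -/
def redOne (a : ℕ) (I : List ℕ) (x : ℕ × ℕ) : ℕ × ℕ :=
  if x.1 == 2 then
    (if a == 1 then (if I.all fun i => i % 2 == 0 then (2, 0) else (2, x.2))
      else (if I.all fun i => i % 4 == 0 then (2, 1) else (2, x.2 + 1)))
  else (if I.all fun i => i % x.1 == 0 then (x.1, 0) else x)

theorem redOne_fst (a : ℕ) (I : List ℕ) (x : ℕ × ℕ) : (redOne a I x).1 = x.1 := by
  unfold redOne
  by_cases h : x.1 = 2
  · rw [if_pos (by simpa using h)]
    split_ifs <;> exact h.symm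
  · rw [if_neg (by simpa using h)]
    split_ifs <;> rfl

/-- the check of a row -/
def chkEq (n : ℕ) (l : List (ℕ × ℕ)) (r M : ℕ) (I ex : List ℕ) : Bool :=
  valid l n && isPrimeB r && (n % r == 0) && (n % r ^ 2 != 0) && (n / r != 1) && (n % 2 == 0) && (n != 2) &&
  (M != 0) && (r != 2) && ((hits n l r 2).all fun c => I.contains (n / c) || ex.contains (n / c)) &&
  [1, 2].all fun a => chkRel n r a 0 M I && (divl (l.map (redOne a I))).all fun D =>
    Nat.blt D 3 || chkRel n r a D M I

section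

variable {A : Type} [Group A] [Fintype A] {S : Type u} [Group S] [Finite S] [IsSimpleGroup S]

/-- the indices of nonperfect subgroups -/
theorem index_mem (T : OrderTable.{u})
    (hS : ∀ (X : Type u) [Group X] [Finite X] [IsSimpleGroup X], Cfsg.IsKnownSimple' X)
    {n : ℕ} (hn : Nat.card S = n) {l : List (ℕ × ℕ)} (hv : valid l n = true)
    {r m : ℕ} {x : S} (h : Sit S r m x) (hm : m ≠ 1) {I ex : List ℕ}
    (hI : ((hits n l r 2).all fun c => I.contains (n / c) || ex.contains (n / c)) = true)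
    (hex : ∀ L : Subgroup S, L.index ∉ ex) {H : Subgroup S} (hxH : x ∈ H) (hnp : ∃ nu : H →* ℂˣ, nu ≠ 1)
    (hsz : H.index ^ 2 < 2 * n) : H.index ∈ I := by
  have h1 := card_mem_hits T hS h hm hn hv hxH hnp hsz
  rw [List.all_eq_true] at hI
  have h2 := hI _ h1
  have h3 : n / Nat.card H = H.index := by
    rw [← hn, ← Subgroup.card_mul_index H, Nat.mul_div_cancel_left _ Nat.card_pos]
  rw [h3, Bool.or_eq_true] at h2
  rcases h2 with h2 | h2
  · simpa using h2
  · exact absurd (by simpa using h2) (hex H)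

/-- `R ∤ D` when all the indices are divisible by `R` -/
theorem not_dvd_of_all (hna : ¬ IsMulCommutative S) (f : S →* A) (hf : Function.Injective f)
    (hN : (f.range).Normal) (hi : (f.range).index ∣ 2) {n : ℕ} (hn : Nat.card S = n) {r m : ℕ} {x : S}
    (h : Sit S r m x) (hm : m ≠ 1) {D R : ℕ} (hR0 : R ≠ 0) (hRi : ¬ R ∣ (f.range).index)
    (hEq : ∀ χ : A → ℂ, NonMono f χ → χ 1 = (D : ℂ)) {I : List ℕ}
    (hI : ∀ H : Subgroup S, x ∈ H → (∃ nu : H →* ℂˣ, nu ≠ 1) → H.index ^ 2 < 2 * n → H.index ∈ I)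
    (hall : ∀ i ∈ I, R ∣ i) : ¬ R ∣ D := by
  intro hRD
  have hx : x ≠ 1 := by
    rintro rfl
    have h1 := h.orderOf_eq hm
    rw [orderOf_one] at h1
    exact h.prime.one_lt.ne h1
  obtain ⟨H, -, hxH, hnp, hRH, hsz⟩ := exists_sub' hna f hN hR0 hRi hRD hEq hf x hx
  have hsz' : H.index ^ 2 < 2 * n := by
    refine hsz.trans_le ?_
    rw [hn]
    exact Nat.mul_le_mul_right _ (Nat.le_of_dvd (by norm_num) hi)
  exact hRH (hall _ (hI H hxH hnp hsz'))

/-- the possible degrees -/
theorem degree_mem (hna : ¬ IsMulCommutative S) (h2 : 2 ∣ Nat.card S) (f : S →* A) (hf : Function.Injective f)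
    (hN : (f.range).Normal) (hi : (f.range).index ∣ 2) {n : ℕ} (hn : Nat.card S = n) {r m : ℕ} {x : S}
    (h : Sit S r m x) (hm : m ≠ 1) (hr2 : r ≠ 2) {D : ℕ}
    (hEq : ∀ χ : A → ℂ, NonMono f χ → χ 1 = (D : ℂ)) {I : List ℕ}
    (hI : ∀ H : Subgroup S, x ∈ H → (∃ nu : H →* ℂˣ, nu ≠ 1) → H.index ^ 2 < 2 * n → H.index ∈ I)
    {θ : S → ℂ} (hθ : IsIrrCharacter S θ) (hne : θ ≠ 1) (hrd : ¬ r ∣ charDegree θ) :
    charDegree θ ∈ tvals n (f.range).index D I := by
  have := Fintype.ofFinite S
  have hri : ¬ r ∣ (f.range).index := fun h1 => hr2 ((Nat.prime_dvd_prime_iff_eq h.prime Nat.prime_two).1 (h1.trans hi))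
  have hp : ¬ (Nat.card S).Prime := by
    intro hp
    apply hna
    have := Fact.mk hp
    have : IsCyclic S := isCyclic_of_prime_card (p := Nat.card S) rfl
    exact IsCyclic.isMulCommutative
  obtain ⟨c, hc, hcD⟩ := dichotomy hna f hf hN hEq h hm hri hθ hne hrd
  have h3 := Cfsg.Agent.H424.BlockTools.three_le hp h2 hθ hne
  have h4 : charDegree θ ∣ n := by
    rw [← hn]; exact Cfsg.Agent.Blocks.Knorr.charDegree_dvd hθ
  have h5 : charDegree θ * charDegree θ < n := by
    have := degree_sq_lt hθ hne (Cfsg.Agent.Blocks.Basic.irr_one_eq_charDegree hθ)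
    rw [← pow_two, ← hn]
    exact this
  have h6 := le_degree hna f hf hN hEq hθ hne
  rcases hcD with h7 | ⟨L, hxL, hL1, hL2, hL3, hL4⟩
  · exact mem_tvals (i := 0) hi hc (Or.inl h7) h3 h4 h5 h6
  · refine mem_tvals hi hc (Or.inr ⟨hI L hxL hL1 ?_, hL2, hL3⟩) h3 h4 h5 h6
    refine hL4.trans_le ?_
    rw [hn]
    exact Nat.mul_le_mul_right _ (Nat.le_of_dvd (by norm_num) hi)

end

/-- **The row from the degree relation.** -/
theorem good_of_rel (T : OrderTable.{u})
    (hS : ∀ (X : Type u) [Group X] [Finite X] [IsSimpleGroup X], Cfsg.IsKnownSimple' X)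
    {S : Type u} [Group S] [Finite S] [IsSimpleGroup S] (hout : Nat.card (Cfsg.Out S) ≤ 2)
    {n : ℕ} (hn : Nat.card S = n) (l : List (ℕ × ℕ)) (r M : ℕ) (I ex : List ℕ)
    (hL : ∃ x : S, Nat.card (Subgroup.centralizer ({x} : Set S)) = r)
    (hex : ∀ L : Subgroup S, L.index ∉ ex) (hchk : chkEq n l r M I ex = true) : GoodMono S := by
  intro A _ _ f hf hN hc _
  unfold chkEq at hchk
  simp only [Bool.and_eq_true, beq_iff_eq, bne_iff_ne, ne_eq] at hchk
  obtain ⟨⟨⟨⟨⟨⟨⟨⟨⟨⟨hv, hr⟩, hrn⟩, hrn2⟩, hn1⟩, hn2⟩, hn2'⟩, hM⟩, hr2⟩, hI⟩, hchk⟩ := hchk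
  obtain ⟨x, hx⟩ := hL
  have h := sit_of_cent (prime_of hr) hn hrn hrn2 hx
  have h2n : 2 ∣ n := Nat.dvd_of_mod_eq_zero hn2
  have hp : ¬ n.Prime := by
    intro hp
    exact hn2' ((Nat.prime_dvd_prime_iff_eq Nat.prime_two hp).1 h2n).symm
  have hi := index_dvd_two f hf hN hc hout
  have hna : ¬ IsMulCommutative S := by
    intro h
    apply hp
    rw [← hn]
    let _ : CommGroup S := { (inferInstance : Group S) with mul_comm := fun a b => h.is_comm.comm a b }
    exact IsSimpleGroup.prime_card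
  have hI' : ∀ H : Subgroup S, x ∈ H → (∃ nu : H →* ℂˣ, nu ≠ 1) → H.index ^ 2 < 2 * n → H.index ∈ I :=
    fun H hxH hnp hsz => index_mem T hS hn hv h hn1 hI hex hxH hnp hsz
  have ha : (f.range).index = 1 ∨ (f.range).index = 2 := (Nat.dvd_prime Nat.prime_two).1 hi
  have ha' : (f.range).index ∈ [1, 2] := by
    rcases ha with h1 | h1 <;> rw [h1] <;> simp
  rw [List.all_eq_true] at hchk
  have hchk := hchk _ ha'
  rw [Bool.and_eq_true, List.all_eq_true] at hchk
  obtain ⟨hchk0, hchk⟩ := hchk
  have hEq0 : ∀ D : ℕ, (∀ χ : A → ℂ, NonMono f χ → χ 1 = (D : ℂ)) →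
      ¬ chkRel n r (f.range).index D M I = true := by
    intro D hEq hch
    exact rel_false h hn1 hn hM (fun θ hθ hne hrd => degree_mem hna (hn ▸ h2n) f hf hN hi hn h hn1 hr2 hEq hI' hθ hne hrd) hch
  by_contra hcon
  push Not at hcon
  by_cases hexN : ∃ χ : A → ℂ, NonMono f χ
  · obtain ⟨χ, hχ⟩ := hexN
    have h3 := Cfsg.Agent.Blocks.Basic.irr_one_eq_charDegree hχ.irr
    have hEq : ∀ ψ : A → ℂ, NonMono f ψ → ψ 1 = (charDegree χ : ℂ) := fun ψ hψ => by
      rw [← h3]
      exact (hcon χ ψ hχ hψ).symm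
    have hD3 : 3 ≤ charDegree χ :=
      three_le_charDegree f (by rw [hn]; exact hp) (by rw [hn]; exact h2n) hχ.irr hχ.nontriv
    have hDn : charDegree χ ∣ (f.range).index * n := by
      have h4 : charDegree χ ∣ Nat.card A := Cfsg.Agent.Blocks.Knorr.charDegree_dvd hχ.irr
      have h5 : Nat.card A = (f.range).index * Nat.card S := by
        rw [← Subgroup.card_mul_index f.range, mul_comm]
        congr 1
        exact (Nat.card_congr (MonoidHom.ofInjective hf).toEquiv).symm
      rwa [h5, hn] at h4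
    have hmem : charDegree χ ∈ divl (l.map (redOne (f.range).index I)) := by
      refine mem_divl _ _ ?_ (by omega) ?_ ?_
      · intro y hy
        obtain ⟨z, hz, rfl⟩ := List.mem_map.1 hy
        rw [redOne_fst]
        exact valid_prime hv z hz
      · intro y hy
        obtain ⟨z, hz, rfl⟩ := List.mem_map.1 hy
        have hzp := valid_prime hv z hz
        have hze := valid_exact hv z hz
        -- the not-dividing statements
        have hnd : ∀ R : ℕ, R ≠ 0 → ¬ R ∣ (f.range).index → (I.all fun i => i % R == 0) = true →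
            ¬ R ∣ charDegree χ := by
          intro R hR0 hRi hall
          refine not_dvd_of_all hna f hf hN hi hn h hn1 hR0 hRi hEq hI' fun i hiI => ?_
          rw [List.all_eq_true] at hall
          exact Nat.dvd_of_mod_eq_zero (by simpa using hall i hiI)
        by_cases hz2 : z.1 = 2
        · have hz2' : (z.1 == 2) = true := by simpa using hz2
          rw [hz2] at hze
          rcases ha with h1 | h1
          · rw [h1]
            unfold redOne
            rw [if_pos hz2', if_pos (by rfl)]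
            split_ifs with h4
            · show ¬ 2 ^ (0 + 1) ∣ _
              rw [zero_add, pow_one]
              exact hnd 2 (by norm_num) (by rw [h1]; norm_num) h4
            · intro h5
              rw [h1, one_mul] at hDn
              exact hze (h5.trans hDn)
          · rw [h1]
            unfold redOne
            rw [if_pos hz2', if_neg (by decide)]
            split_ifs with h4
            · show ¬ 2 ^ (1 + 1) ∣ _
              exact hnd (2 ^ (1 + 1)) (by norm_num) (by rw [h1]; norm_num) h4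
            · intro h5
              rw [h1] at hDn
              have h6 : 2 ^ (z.2 + 1 + 1) ∣ 2 * n := h5.trans hDn
              rw [pow_succ', ] at h6
              exact hze (Nat.dvd_of_mul_dvd_mul_left (by norm_num) h6)
        · have hz2' : ¬ (z.1 == 2) = true := by simpa using hz2
          unfold redOne
          rw [if_neg hz2']
          split_ifs with h4
          · show ¬ z.1 ^ (0 + 1) ∣ _
            rw [zero_add, pow_one]
            exact hnd z.1 hzp.ne_zero
              (fun h5 => hz2 ((Nat.prime_dvd_prime_iff_eq hzp Nat.prime_two).1 (h5.trans hi))) h4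
          · intro h5
            have h6 : z.1 ^ (z.2 + 1) ∣ (f.range).index * n := h5.trans hDn
            have h7 : (z.1 ^ (z.2 + 1)).Coprime (f.range).index := by
              apply Nat.Coprime.pow_left
              rw [Nat.Prime.coprime_iff_not_dvd hzp]
              exact fun h5 => hz2 ((Nat.prime_dvd_prime_iff_eq hzp Nat.prime_two).1 (h5.trans hi))
            exact hze (h7.dvd_of_dvd_mul_left h6)
      · intro s hs hsD
        rw [List.map_map]
        have h4 : s ∣ n := by
          rcases hs.dvd_mul.1 (hsD.trans hDn) with h5 | h5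
          · have h6 := h5.trans hi
            rw [(Nat.prime_dvd_prime_iff_eq hs Nat.prime_two).1 h6]
            exact h2n
          · exact h5
        obtain ⟨k, hk, -⟩ := exists_pair hv hs (le_refl 1) (by rwa [pow_one])
        rw [List.mem_map]
        exact ⟨_, hk, redOne_fst _ _ _⟩
    have h4 := hchk _ hmem
    rw [Bool.or_eq_true] at h4
    rcases h4 with h4 | h4
    · have h5 : charDegree χ < 3 := by simpa [Nat.blt] using h4
      omega
    · exact hEq0 _ hEq h4
  · push Not at hexN
    exact hEq0 0 (fun χ hχ => absurd hχ (hexN χ)) hchk0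

end Cfsg.Agent.H642.Mono
end

-- part: H642/MonoChar
section
/-!
# GoodMono from one known character degree (helper642, for S4572)

`good_of_char` : a simple group of order `n` with a self-centralising element of order `r` and a nontrivial
irreducible character `θ` of degree `d` prime to `r`: the character of `A` over `θ` is not monomial.
-/

set_option autoImplicit false
set_option linter.unusedSectionVars false
set_option linter.unusedVariables false

namespace Cfsg.Agent.H642.Mono

open Cfsg Cfsg.Agent.H649.MN Cfsg.Agent.Characters.Core Cfsg.Agent.H902.Mono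
open Cfsg.Agent.H361.SelfCent Cfsg.Agent.OrdDiv Cfsg.Agent.Characters

universe u

/-- the check of the data -/
def chkBase (n : ℕ) (l : List (ℕ × ℕ)) (r : ℕ) (I ex : List ℕ) : Bool :=
  valid l n && isPrimeB r && (n % r == 0) && (n % r ^ 2 != 0) && (n / r != 1) && (n % 2 == 0) && (n != 2) &&
  (r != 2) && ((hits n l r 2).all fun c => I.contains (n / c) || ex.contains (n / c))

/-- the character over a character of degree `d` is not monomial -/
def chkD (I : List ℕ) (d : ℕ) : Bool :=
  [1, 2].all fun a => [1, 2].all fun c => (a % c != 0) ||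
    I.all fun i => !(((c * d) % i == 0) && ((a * i) % (c * d) == 0))

theorem good_core (T : OrderTable.{u})
    (hS : ∀ (X : Type u) [Group X] [Finite X] [IsSimpleGroup X], Cfsg.IsKnownSimple' X)
    {S : Type u} [Group S] [Finite S] [IsSimpleGroup S] (hout : Nat.card (Cfsg.Out S) ≤ 2)
    {n : ℕ} (hn : Nat.card S = n) (l : List (ℕ × ℕ)) (r : ℕ) (I ex : List ℕ)
    (hL : ∃ x : S, Nat.card (Subgroup.centralizer ({x} : Set S)) = r)
    (hex : ∀ L : Subgroup S, L.index ∉ ex) (hchk : chkBase n l r I ex = true) {d : ℕ}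
    (hd : ∃ θ : IrrCharacter S, charDegree (θ : S → ℂ) = d) (hd1 : d ≠ 1) (hrd : ¬ r ∣ d)
    (hchkd : chkD I d = true)
    (hno : ∀ (A : Type) [Group A] [Fintype A] (f : S →* A), Function.Injective f → (f.range).Normal →
      (f.range).index ∣ 2 → ¬ IsMulCommutative S →
      ∀ (x : S), Sit S r (n / r) x → (∀ H : Subgroup S, x ∈ H → (∃ nu : H →* ℂˣ, nu ≠ 1) →
        H.index ^ 2 < 2 * n → H.index ∈ I) →
      ∀ c : ℕ, c ∣ (f.range).index → (∀ χ : A → ℂ, NonMono f χ → χ 1 = ((c * d : ℕ) : ℂ)) → False) :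
    GoodMono S := by
  intro A _ _ f hf hN hc _
  unfold chkBase at hchk
  simp only [Bool.and_eq_true, beq_iff_eq, bne_iff_ne, ne_eq] at hchk
  obtain ⟨⟨⟨⟨⟨⟨⟨⟨hv, hr⟩, hrn⟩, hrn2⟩, hn1⟩, hn2⟩, hn2'⟩, hr2⟩, hI⟩ := hchk
  obtain ⟨x, hx⟩ := hL
  have h := sit_of_cent (prime_of hr) hn hrn hrn2 hx
  have h2n : 2 ∣ n := Nat.dvd_of_mod_eq_zero hn2
  have hp : ¬ n.Prime := by
    intro hp
    exact hn2' ((Nat.prime_dvd_prime_iff_eq Nat.prime_two hp).1 h2n).symm
  have hi := index_dvd_two f hf hN hc hout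
  have hna : ¬ IsMulCommutative S := by
    intro h
    apply hp
    rw [← hn]
    let _ : CommGroup S := { (inferInstance : Group S) with mul_comm := fun a b => h.is_comm.comm a b }
    exact IsSimpleGroup.prime_card
  have hI' : ∀ H : Subgroup S, x ∈ H → (∃ nu : H →* ℂˣ, nu ≠ 1) → H.index ^ 2 < 2 * n → H.index ∈ I :=
    fun H hxH hnp hsz => index_mem T hS hn hv h hn1 hI hex hxH hnp hsz
  have ha : (f.range).index = 1 ∨ (f.range).index = 2 := (Nat.dvd_prime Nat.prime_two).1 hi
  have ha' : (f.range).index ∈ [1, 2] := by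
    rcases ha with h1 | h1 <;> rw [h1] <;> simp
  obtain ⟨θ, hθ⟩ := hd
  have hne : (θ : S → ℂ) ≠ 1 := by
    intro h1
    apply hd1
    rw [← hθ, h1]
    exact Cfsg.Agent.Blocks.Basic.charDegree_of_eq (by simp)
  have key : ∀ D : ℕ, (∀ χ : A → ℂ, NonMono f χ → χ 1 = (D : ℂ)) → ∃ c, c ∣ (f.range).index ∧ c * d = D := by
    intro D hEq
    obtain ⟨c, hc, h1 | ⟨L, hxL, hL1, hL2, hL3, hL4⟩⟩ := dichotomy hna f hf hN hEq h hn1
      (fun h1 => hr2 ((Nat.prime_dvd_prime_iff_eq h.prime Nat.prime_two).1 (h1.trans hi))) θ.2 hne (by rwa [hθ])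
    · exact ⟨c, hc, by rw [← h1, hθ]⟩
    · exfalso
      have h2 := hI' L hxL hL1 (by
        refine hL4.trans_le ?_
        rw [hn]
        exact Nat.mul_le_mul_right _ (Nat.le_of_dvd (by norm_num) hi))
      rw [hθ] at hL2 hL3
      unfold chkD at hchkd
      rw [List.all_eq_true] at hchkd
      have h3 := hchkd _ ha'
      rw [List.all_eq_true] at h3
      have hc' : c ∈ [1, 2] := by
        rcases (Nat.dvd_prime Nat.prime_two).1 (hc.trans hi) with h4 | h4 <;> rw [h4] <;> simp
      have h4 := h3 c hc'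
      rw [Bool.or_eq_true, bne_iff_ne] at h4
      rcases h4 with h4 | h4
      · exact h4 (Nat.mod_eq_zero_of_dvd hc)
      · rw [List.all_eq_true] at h4
        have h5 := h4 _ h2
        rw [Nat.mod_eq_zero_of_dvd hL2, Nat.mod_eq_zero_of_dvd hL3] at h5
        simp at h5
  by_contra hcon
  push Not at hcon
  have hfin : ∀ D : ℕ, (∀ χ : A → ℂ, NonMono f χ → χ 1 = (D : ℂ)) → False := by
    intro D hEq
    obtain ⟨c, hc, hcD⟩ := key D hEq
    exact hno A f hf hN hi hna x h hI' c hc (by rw [hcD]; exact hEq)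
  by_cases hexN : ∃ χ : A → ℂ, NonMono f χ
  · obtain ⟨χ, hχ⟩ := hexN
    have h3 := Cfsg.Agent.Blocks.Basic.irr_one_eq_charDegree hχ.irr
    exact hfin (charDegree χ) fun ψ hψ => by
      rw [← h3]
      exact (hcon χ ψ hχ hψ).symm
  · push Not at hexN
    exact hfin 0 fun χ hχ => absurd hχ (hexN χ)

/-- the version with a prime `p` dividing `d` and all the indices -/
theorem good_of_char (T : OrderTable.{u})
    (hS : ∀ (X : Type u) [Group X] [Finite X] [IsSimpleGroup X], Cfsg.IsKnownSimple' X)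
    {S : Type u} [Group S] [Finite S] [IsSimpleGroup S] (hout : Nat.card (Cfsg.Out S) ≤ 2)
    {n : ℕ} (hn : Nat.card S = n) (l : List (ℕ × ℕ)) (r p : ℕ) (I ex : List ℕ)
    (hL : ∃ x : S, Nat.card (Subgroup.centralizer ({x} : Set S)) = r)
    (hex : ∀ L : Subgroup S, L.index ∉ ex) (hchk : chkBase n l r I ex = true) {d : ℕ}
    (hd : ∃ θ : IrrCharacter S, charDegree (θ : S → ℂ) = d)
    (hchkd : (chkD I d && (d != 1) && (d % r != 0) && (d % p == 0) && (I.all fun i => i % p == 0) &&
      (Nat.blt 2 p)) = true) :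
    GoodMono S := by
  simp only [Bool.and_eq_true, bne_iff_ne, ne_eq, beq_iff_eq] at hchkd
  obtain ⟨⟨⟨⟨⟨h1, h2⟩, h3⟩, h4⟩, h5⟩, h6⟩ := hchkd
  have hp2 : 2 < p := by
    have h7 : 3 ≤ p := by simpa [Nat.blt] using h6
    omega
  refine good_core T hS hout hn l r I ex hL hex hchk hd h2 (fun h => h3 (Nat.mod_eq_zero_of_dvd h)) h1 ?_
  intro A _ _ f hf hN hi hna x h hI' c hc hEq
  have hn1 : n / r ≠ 1 := by
    unfold chkBase at hchk
    simp only [Bool.and_eq_true, beq_iff_eq, bne_iff_ne, ne_eq] at hchk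
    exact hchk.1.1.1.1.2
  refine not_dvd_of_all hna f hf hN hi hn h hn1 (R := p) (D := c * d) (by omega) (fun h7 => ?_) hEq hI' ?_ ?_
  · have := Nat.le_of_dvd (by norm_num) (h7.trans hi)
    omega
  · intro i hi
    rw [List.all_eq_true] at h5
    exact Nat.dvd_of_mod_eq_zero (by simpa using h5 i hi)
  · exact Dvd.dvd.mul_left (Nat.dvd_of_mod_eq_zero h4) c

/-- the version with the degree relation -/
theorem good_of_char_rel (T : OrderTable.{u})
    (hS : ∀ (X : Type u) [Group X] [Finite X] [IsSimpleGroup X], Cfsg.IsKnownSimple' X)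
    {S : Type u} [Group S] [Finite S] [IsSimpleGroup S] (hout : Nat.card (Cfsg.Out S) ≤ 2)
    {n : ℕ} (hn : Nat.card S = n) (l : List (ℕ × ℕ)) (r M : ℕ) (I ex : List ℕ)
    (hL : ∃ x : S, Nat.card (Subgroup.centralizer ({x} : Set S)) = r)
    (hex : ∀ L : Subgroup S, L.index ∉ ex) (hchk : chkBase n l r I ex = true) {d : ℕ}
    (hd : ∃ θ : IrrCharacter S, charDegree (θ : S → ℂ) = d)
    (hchkd : (chkD I d && (d != 1) && (d % r != 0) && (M != 0) && chkRel n r 1 d M I && chkRel n r 2 d M I &&
      chkRel n r 2 (2 * d) M I) = true) :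
    GoodMono S := by
  simp only [Bool.and_eq_true, bne_iff_ne, ne_eq] at hchkd
  obtain ⟨⟨⟨⟨⟨⟨h1, h2⟩, h3⟩, hM⟩, h4⟩, h5⟩, h6⟩ := hchkd
  refine good_core T hS hout hn l r I ex hL hex hchk hd h2 (fun h => h3 (Nat.mod_eq_zero_of_dvd h)) h1 ?_
  intro A _ _ f hf hN hi hna x h hI' c hc hEq
  unfold chkBase at hchk
  simp only [Bool.and_eq_true, beq_iff_eq, bne_iff_ne, ne_eq] at hchk
  obtain ⟨⟨⟨⟨⟨⟨⟨⟨hv, hr⟩, hrn⟩, hrn2⟩, hn1⟩, hn2⟩, hn2'⟩, hr2⟩, hI⟩ := hchk
  have h2n : 2 ∣ n := Nat.dvd_of_mod_eq_zero hn2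
  have hV := fun (θ : S → ℂ) hθ hne hrd =>
    degree_mem hna (hn ▸ h2n) f hf hN hi hn h hn1 hr2 hEq hI' (θ := θ) hθ hne hrd
  have ha : (f.range).index = 1 ∨ (f.range).index = 2 := (Nat.dvd_prime Nat.prime_two).1 hi
  rcases ha with ha | ha
  · rw [ha] at hV hc
    rw [Nat.dvd_one.1 hc, one_mul] at hV
    exact rel_false h hn1 hn hM hV h4
  · rw [ha] at hV hc
    rcases (Nat.dvd_prime Nat.prime_two).1 hc with rfl | rfl
    · rw [one_mul] at hV
      exact rel_false h hn1 hn hM hV h5
    · exact rel_false h hn1 hn hM hV h6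

end Cfsg.Agent.H642.Mono
end

-- part: H642/MonoSuz
section
/-!
# GoodMono: the Suzuki group (helper642, for S4572)
-/

set_option autoImplicit false

namespace Cfsg.Agent.H642.Mono

open Cfsg Cfsg.Agent.H649.MN Cfsg.Agent.H361.SelfCent Cfsg.Agent.OrdDiv
open Cfsg.Agent.H34.SporTool Cfsg.Agent.H690.Spor.RankThree

universe u

theorem deg_congr {S T : Type*} [Group S] [Group T] (e : S ≃* T) {d : ℕ}
    (h : ∃ θ : IrrCharacter T, charDegree (θ : T → ℂ) = d) : ∃ θ : IrrCharacter S, charDegree (θ : S → ℂ) = d := by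
  obtain ⟨θ, hθ⟩ := h
  refine ⟨⟨_, Cfsg.Agent.Characters.Core.isIrr_comp e.toMonoidHom e.surjective θ.2⟩, ?_⟩
  rw [← hθ]
  unfold charDegree
  simp

theorem suz (E : Env.{u}) {S : Type u} [Group S] [Finite S] [IsSimpleGroup S] (h : Spor.IsoSuz S) : GoodMono S := by
  have hs : IsSporadicGroup S := Or.inr (Or.inr (Or.inr (Or.inr (Or.inr (Or.inr (Or.inr (Or.inr (Or.inr (Or.inr
    (Or.inr (Or.inr (Or.inr (Or.inr (Or.inl h))))))))))))))
  have hcard := E.table.spor S (.suz, 448345497600) (by decide) h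
  obtain ⟨e⟩ := h
  have hf : Finite Spor.Suz := Finite.of_equiv _ e.toEquiv
  refine good_of_char E.table E.known (E.out S hs) hcard
    [(2, 13), (3, 7), (5, 2), (7, 1), (11, 1), (13, 1)] 11 13
    [11232, 936, 505440, 331695, 116480, 2080, 163800, 81900, 32760, 16380, 1365] [] ?_ (fun _ => List.not_mem_nil)
    (by decide +kernel) (d := 780) (deg_congr e ?_) (by decide +kernel)
  · refine cent_congr e ⟨Cfsg.Agent.OddHalf.Table.SuzRep.x, ?_⟩
    have h1 : Subgroup.centralizer ({Cfsg.Agent.OddHalf.Table.SuzRep.x} : Set Spor.Suz) =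
        Subgroup.zpowers Cfsg.Agent.OddHalf.Table.SuzRep.x := by
      apply le_antisymm
      · intro c hc
        obtain ⟨i, hi⟩ := Cfsg.Agent.OddHalf.Table.OutSuz.cent_x c (Subgroup.mem_centralizer_singleton_iff.1 hc)
        rw [hi]
        exact Subgroup.npow_mem_zpowers _ _
      · rw [Subgroup.zpowers_le]
        exact Subgroup.mem_centralizer_singleton_iff.2 rfl
    rw [h1, Nat.card_zpowers, Cfsg.Agent.OddHalf.Table.OutSuz.order_x]
  · obtain ⟨hi, c₁, c₂, h1, h2⟩ := S1680.result
    obtain ⟨R, hR⟩ := R3.of_index _ (k := 416) (l := 1365) hi h1 h2 (by norm_num) (by norm_num) (by norm_num)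
    obtain ⟨χ₁, χ₂, h3, -, -⟩ := frame_pair hR 780 1001 rfl [64, 63, 65, 11, 17, 19, 23] (by decide) 10 (by norm_num)
      (by omega) (by decide +kernel)
    exact ⟨χ₁, h3⟩

end Cfsg.Agent.H642.Mono
end

-- part: H642/MonoJTwo
section
/-!
# GoodMono: the group J2 (helper642, for S4572)
-/

set_option autoImplicit false

namespace Cfsg.Agent.H642.Mono

open Cfsg Cfsg.Agent.H649.MN Cfsg.Agent.H361.SelfCent Cfsg.Agent.OrdDiv
open Cfsg.Agent.H34.SporTool Cfsg.Agent.H690.Spor.RankThree

universe u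

theorem j2_seven [Finite Spor.J2] : ∃ x : Spor.J2, Nat.card (Subgroup.centralizer ({x} : Set Spor.J2)) = 7 := by
  have : Fact (Nat.Prime 7) := ⟨by norm_num⟩
  obtain ⟨t, u, Q, v, ρ, D⟩ := Cfsg.Agent.KFacts.J2.Basic.exists_dat
  have hG : Nat.card Spor.J2 = 604800 := Cfsg.Agent.J2Type.Order.card_of_fus D.F
  obtain ⟨P⟩ : Nonempty (Sylow 7 Spor.J2) := inferInstance
  obtain ⟨h1, -, -⟩ := Cfsg.Agent.J2Type.SylowSeven.sylow_seven hG (Cfsg.Agent.J2Type.ThreeF.not_seven_dvd_two D.F)
    (Cfsg.Agent.J2Type.ThreeF.not_seven_dvd_three D.F) P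
  have hP : Nat.card (P : Subgroup Spor.J2) = 7 := by
    rw [P.card_eq_multiplicity, hG]
    have : (604800 : ℕ).factorization 7 = 1 := by
      rw [show (604800 : ℕ) = 7 * 86400 by norm_num, Nat.factorization_mul (by norm_num) (by norm_num),
        Finsupp.add_apply, (by norm_num : Nat.Prime 7).factorization_self,
        Nat.factorization_eq_zero_of_not_dvd (by norm_num)]
    rw [this, pow_one]
  exact cent_of_sub (by norm_num) hP (by rw [h1]; exact hP)

theorem j2 (E : Env.{u}) {S : Type u} [Group S] [Finite S] [IsSimpleGroup S] (h : Spor.IsoJ2 S) : GoodMono S := by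
  have hs : IsSporadicGroup S := Or.inr (Or.inr (Or.inr (Or.inr (Or.inr (Or.inr (Or.inl h))))))
  have hcard := E.table.spor S (.j2, 604800) (by decide) h
  obtain ⟨e⟩ := h
  have hf : Finite Spor.J2 := Finite.of_equiv _ e.toEquiv
  refine good_of_char_rel E.table E.known (E.out S hs) hcard
    [(2, 7), (3, 3), (5, 2), (7, 1)] 7 5 [15, 50, 120, 225, 400, 450, 675] [] (cent_congr e j2_seven)
    (fun _ => List.not_mem_nil) (by decide +kernel) (d := 36) (deg_congr e ?_) (by decide +kernel)
  obtain ⟨H, hi, -, c₁, c₂, h1, h2⟩ := S1624.result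
  obtain ⟨R, hR⟩ := R3.of_index H (k := 36) (l := 63) hi h1 h2 (by norm_num) (by norm_num) (by norm_num)
  obtain ⟨χ₁, χ₂, h3, -, -⟩ := frame_pair hR 36 63 rfl [64, 63, 65, 11, 17, 19, 23] (by decide) 6 (by norm_num)
    (by omega) (by decide +kernel)
  exact ⟨χ₁, h3⟩

end Cfsg.Agent.H642.Mono
end

private theorem dce_6e32244bd60c : _root_.True := by
  try have : _root_.True := by simp only [_root_.Cfsg.Agent.H642.Mono.divl.eq_2]
  try have : _root_.True := by simp only [_root_.Cfsg.Agent.H642.Mono.undup.eq_def]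
  try have : _root_.True := by simp only [_root_.Cfsg.Agent.H642.Mono.sumsM.eq_def]
  try have : _root_.True := by simp only [_root_.Cfsg.Agent.H642.Mono.sumsM.eq_2]
  try have : _root_.True := by simp only [_root_.Cfsg.Agent.H642.Mono.sumsM.eq_1]
  try have : _root_.True := by simp only [_root_.Cfsg.Agent.H642.Mono.divl.eq_def]
  try have : _root_.True := by simp only [_root_.Cfsg.Agent.H642.Mono.divl.eq_1]
  exact _root_.True.intro
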